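import Cfsg.Agent.H991.WF.Word
import Cfsg.Agent.H345.IRowCo1
import Cfsg.Agent.H536.T5.SpTools

/-!
# The weak pair row `(Co1, 3)` (helper991, S3826)

The pairs of classes of elements of order three of `Co1` by words.
-/

set_option autoImplicit false
set_option maxRecDepth 20000

namespace Cfsg.Agent.H991.WF.Co1

open Subgroup Cfsg
open Cfsg.Agent.SporadicStructure.Co0Matrix Cfsg.Agent.CoOneType.CoEval
open Cfsg.Agent.LThreeCo1 Cfsg.Agent.LThreeCo1.Ranks Cfsg.Agent.LThreeCo1.Class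
open Cfsg.Agent.LThreeCo1.RelQ (M e rep)
open Cfsg.Agent.H345.IRowCo
open Cfsg.Agent.H533.T5
open Cfsg.Spor (Co1)

/-- the representatives -/
def r0 : List ℕ := [1]
def r6 : List ℕ := [1, 2, 2, 3, 3, 4, 4]
def r8 : List ℕ := [29]
def r12 : List ℕ := [1, 2]

/-- the check of a pair -/
def okP (a b y : List ℕ) (m n : ℕ) : Bool :=
  relB M (y ++ y) && (relB M (wpow (wpow (a ++ (y ++ (b ++ y))) m) n) && neB M (wpow (a ++ (y ++ (b ++ y))) m))

theorem k06 : okP r0 r6 [8, 8, 32, 8] 3 2 = true := by decide +kernel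
theorem k08 : okP r0 r8 [29, 31, 33, 32, 33, 31, 29, 29] 1 8 = true := by decide +kernel
theorem k012 : okP r0 r12 [29, 29, 7, 32, 7, 7, 29] 1 4 = true := by decide +kernel
theorem k68 : okP r6 r8 [35] 1 11 = true := by decide +kernel
theorem k612 : okP r6 r12 [8, 33, 8, 31, 8, 8, 33, 8, 8] 1 4 = true := by decide +kernel
theorem k812 : okP r8 r12 [32] 1 10 = true := by decide +kernel

theorem wpair_of_ok {a b y : List ℕ} {m n : ℕ} (h : okP a b y m n = true) (hn : Nat.Coprime n 3) :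
    WPair 3 (⊤ : Subgroup Co1) (vl a) (vl b) := by
  unfold okP at h
  rw [Bool.and_eq_true, Bool.and_eq_true] at h
  obtain ⟨h1, h2, h3⟩ := h
  have e1 := vl_one h1
  rw [vl_append] at e1
  have e2 : (vl y)⁻¹ = vl y := inv_eq_of_mul_eq_one_right e1
  have e3 : vl (a ++ (y ++ (b ++ y))) = vl a * (vl y * vl b * (vl y)⁻¹) := by
    rw [vl_append, vl_append, vl_append, e2, mul_assoc (vl y)]
  refine wpair_of_word (g := vl y) (m := m) (n := n) ?_ hn ?_
  · rw [← e3, ← vl_wpow, ← vl_wpow]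
    exact vl_one h2
  · rw [← e3, ← vl_wpow]
    exact ne_one_of_neB rep h3

theorem exists_rep {s : Co1} (hs : orderOf s = 3) : ∃ w, (w = r0 ∨ w = r6 ∨ w = r8 ∨ w = r12) ∧
    ∃ g : Co1, g * s * g⁻¹ = vl w := by
  obtain ⟨c, hc, g, hg⟩ := Ranks.classes hs
  rcases hc with rfl | rfl | rfl | rfl
  · exact ⟨r0, Or.inl rfl, g, hg.trans vl0.symm⟩
  · exact ⟨r6, Or.inr (Or.inl rfl), g, hg.trans vl6.symm⟩
  · exact ⟨r8, Or.inr (Or.inr (Or.inl rfl)), g, hg.trans vl8.symm⟩
  · exact ⟨r12, Or.inr (Or.inr (Or.inr rfl)), g, hg.trans vl12.symm⟩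

theorem finite_co1 : Finite Co1 := Nat.finite_of_card_ne_zero (by rw [Cfsg.Agent.S0399.result.2]; norm_num)

theorem pairs {x y : Co1} (hx : orderOf x = 3) (hy : orderOf y = 3) : WPair 3 (⊤ : Subgroup Co1) x y := by
  have : Fact (Nat.Prime 3) := ⟨Nat.prime_three⟩
  have hf := finite_co1
  have hs : IsSimpleGroup Co1 := Cfsg.Agent.S0399.result.1
  have hna : ¬ IsMulCommutative Co1 := H536.T5.not_comm_of_card (by rw [Cfsg.Agent.S0399.result.2]; norm_num)
  obtain ⟨a, ha, g, hg⟩ := exists_rep hx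
  obtain ⟨b, hb, k, hk⟩ := exists_rep hy
  have hna1 : vl a ≠ 1 := by
    intro h
    have h2 : x = 1 := by
      calc x = g⁻¹ * (g * x * g⁻¹) * g := by group
        _ = 1 := by rw [hg, h]; group
    rw [h2, orderOf_one] at hx
    norm_num at hx
  refine WPair.conj_left (Subgroup.mem_top g) (WPair.conj_right (Subgroup.mem_top k) ?_)
  rw [hg, hk]
  by_cases hab : a = b
  · rw [← hab]
    exact wpair_of_isConj hna (i := 1) (j := 1) (IsConj.refl _) (by rwa [pow_one])
  have h06 := wpair_of_ok k06 (by norm_num)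
  have h08 := wpair_of_ok k08 (by norm_num)
  have h012 := wpair_of_ok k012 (by norm_num)
  have h68 := wpair_of_ok k68 (by norm_num)
  have h612 := wpair_of_ok k612 (by norm_num)
  have h812 := wpair_of_ok k812 (by norm_num)
  rcases ha with rfl | rfl | rfl | rfl <;> rcases hb with rfl | rfl | rfl | rfl
  · exact absurd rfl hab
  · exact h06
  · exact h08
  · exact h012
  · exact h06.symm
  · exact absurd rfl hab
  · exact h68
  · exact h612
  · exact h08.symm
  · exact h68.symm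
  · exact absurd rfl hab
  · exact h812
  · exact h012.symm
  · exact h612.symm
  · exact h812.symm
  · exact absurd rfl hab

universe u v

/-- **the weak row `(Co1, 3)`** -/
theorem wrow_co1 (S : Type u) [Group S] [Finite S] [IsSimpleGroup S] (h : Spor.IsoCo1 S) : WRow 3 S := by
  have hin := Cfsg.Agent.BpSpor.Inn.co1 (⟨MulEquiv.refl _⟩ : Cfsg.Spor.IsoCo1 Co1)
  obtain ⟨e⟩ := h
  refine H536.T5.wrow_of_model Nat.prime_three (by norm_num) ?_ (Cfsg.Agent.BpSpor.Inn.OddInn.congr e hin) e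
    fun x y hx hy => pairs hx hy
  rw [Nat.card_congr e.toEquiv, Cfsg.Agent.S0399.result.2]
  norm_num

/-- **the row `(Co1, 3)` of S3826** -/
theorem wfrow_co1 {K : Type v} [Group K] [Finite K] [IsSimpleGroup K] (h : Spor.IsoCo1 K) :
    Cfsg.Agent.H533.Wf.WfRow.{u, v} 3 K := by
  have : Fact (Nat.Prime 3) := ⟨Nat.prime_three⟩
  exact Cfsg.Agent.H533.Wf.WfRow.of_wrow (wrow_co1 K h)

end Cfsg.Agent.H991.WF.Co1
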