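import Cfsg.Agent.H533.Wf.Kills
import Cfsg.Agent.H345.IRowCo2
import Cfsg.Agent.H536.T5.SpTools

/-!
# The row `(Co2, 3)` of S3826 (helper991)

`McL` lies in `Co2` with index `2^11 · 23`.

* `top_of_inner` : the group of a minimal configuration is simple if all automorphisms of the socle are inner;
* `false_of_emb` : a nonabelian simple group of index prime to `p` in the group of a minimal configuration.
-/

set_option autoImplicit false

namespace Cfsg.Agent.H991.WF.Co2

open Subgroup Cfsg Cfsg.Agent.H533.T5 Cfsg.Agent.H533.Wf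

universe u v

/-- all automorphisms of the socle are inner -/
theorem top_of_inner {p : ℕ} {G : Type u} [Group G] {S : Subgroup G} {C D : Set G} (h : Cfg p S C D)
    (hin : ∀ α : MulAut S, ∃ s : S, α = MulAut.conj s) : S = ⊤ := by
  have hSn := h.normal
  rw [eq_top_iff]
  intro g _
  obtain ⟨s, hs⟩ := hin (MulAut.conjNormal g)
  have h1 : (s : G)⁻¹ * g ∈ Subgroup.centralizer (S : Set G) := by
    rw [Subgroup.mem_centralizer_iff]
    intro x hx
    have h2 : (MulAut.conjNormal g : MulAut S) ⟨x, hx⟩ = MulAut.conj s ⟨x, hx⟩ := by rw [hs]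
    have h3 : g * x * g⁻¹ = s * x * (s : G)⁻¹ := by
      have := congrArg Subtype.val h2
      rw [MulAut.conjNormal_apply] at this
      exact this
    calc x * ((s : G)⁻¹ * g) = (s : G)⁻¹ * (s * x * (s : G)⁻¹) * g := by group
      _ = (s : G)⁻¹ * g * x := by rw [← h3]; group
  rw [h.cent, Subgroup.mem_bot] at h1
  have h2 : g = s := (inv_mul_eq_one.1 h1).symm
  rw [h2]
  exact s.2

/-- a nonabelian simple proper subgroup of index prime to `p` -/
theorem false_of_emb {p : ℕ} [Fact p.Prime] {G : Type u} [Group G] [Finite G] {S : Subgroup G} {C D : Set G}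
    (h : Cfg p S C D) {M : Type v} [Group M] [IsSimpleGroup M] (hna : ¬ IsMulCommutative M) (f : M →* G)
    (hf : Function.Injective f) (hidx : ¬ p ∣ f.range.index) (hne : f.range ≠ ⊤) : False := by
  have hs : IsSimpleGroup f.range := (MonoidHom.ofInjective hf).symm.isSimpleGroup
  have hnc : ¬ IsMulCommutative f.range := by
    intro hc
    apply hna
    refine ⟨⟨fun a b => hf ?_⟩⟩
    rw [map_mul, map_mul]
    exact congrArg Subtype.val (hc.is_comm.comm ⟨f a, a, rfl⟩ ⟨f b, b, rfl⟩)
  refine h.false_of_index (H := f.range) (L := f.range) hne hidx le_rfl Subgroup.le_normalizer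
    (QS.of_simple hs hnc) fun x hx ho hc => ?_
  have h1 : (⟨x, hx⟩ : f.range) ∈ Subgroup.center f.range := by
    rw [Subgroup.mem_center_iff]
    intro y
    exact Subtype.ext (Subgroup.mem_centralizer_iff.1 hc y y.2)
  rw [center_eq_bot_of_simple hnc, Subgroup.mem_bot] at h1
  have h2 : x = 1 := congrArg Subtype.val h1
  rw [h2, orderOf_one] at ho
  exact (Fact.out : p.Prime).one_lt.ne ho

/-- **the row `(Co2, 3)` of S3826** -/
theorem wfrow_co2 {K : Type v} [Group K] (hK : Spor.IsoCo2 K) : WfRow.{u, v} 3 K := by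
  have : Fact (Nat.Prime 3) := ⟨Nat.prime_three⟩
  rintro G _ _ S C D h ⟨e₀⟩
  obtain ⟨e₁⟩ := hK
  have e : S ≃* Spor.Co2 := e₀.trans e₁
  have hcard : Nat.card S = 42305421312000 := NotCT.Orders.co2 ⟨e⟩
  have htop : S = ⊤ := by
    refine top_of_inner h fun α => ?_
    obtain ⟨k, hk⟩ := Cfsg.Agent.KFacts.CoTwo.QuotInst.allInner ((e.symm.trans α).trans e)
    refine ⟨e.symm k, ?_⟩
    ext x
    have h1 : e (α (e.symm (e x))) = k * e x * k⁻¹ := by
      have := DFunLike.congr_fun hk (e x)
      exact this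
    rw [e.symm_apply_apply] at h1
    have h2 : α x = e.symm k * x * (e.symm k)⁻¹ := by
      apply e.injective
      rw [h1, map_mul, map_mul, map_inv, e.apply_symm_apply]
    rw [h2]
    rfl
  have hM : Spor.IsoMcL ↥Spor.McL := ⟨MulEquiv.refl _⟩
  have hs : IsSimpleGroup ↥Spor.McL := (Cfsg.Agent.TypeM.FactsMcL.facts hM).2.1
  have hc : Nat.card ↥Spor.McL = 898128000 := NotCT.Orders.mcl hM
  have hfin : Finite ↥Spor.McL := Nat.finite_of_card_ne_zero (by rw [hc]; norm_num)
  have hna : ¬ IsMulCommutative ↥Spor.McL := H536.T5.not_comm_of_card (by rw [hc]; norm_num)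
  let f : ↥Spor.McL →* G :=
    S.subtype.comp (e.symm.toMonoidHom.comp (Subgroup.inclusion H345.IRowCo.mcl_le))
  have hf : Function.Injective f :=
    S.subtype_injective.comp (e.symm.injective.comp (Subgroup.inclusion_injective H345.IRowCo.mcl_le))
  have hG : Nat.card G = 42305421312000 := by
    rw [← hcard, htop]
    exact (Nat.card_congr (Subgroup.topEquiv : (⊤ : Subgroup G) ≃* G).toEquiv).symm
  have h1 : Nat.card f.range = 898128000 := by
    rw [← hc]
    exact (Nat.card_congr (MonoidHom.ofInjective hf).toEquiv).symm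
  have h2 := Subgroup.card_mul_index f.range
  rw [h1, hG] at h2
  have h3 : f.range.index = 47104 := by omega
  refine false_of_emb h hna f hf (by rw [h3]; norm_num) fun ht => ?_
  rw [ht, Subgroup.index_top] at h3
  norm_num at h3

end Cfsg.Agent.H991.WF.Co2
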