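import Cfsg.Agent.H143.Co3InvData

/-!
# Elements of order three of `Co₃`: data and kernel checks (helper991, S3826)

`tab` : the normal forms of `Cfsg.Agent.H143.Co3InvData` with the code 14, 15 are conjugate to the normal forms 729, 738
or 22.
-/

set_option autoImplicit false

namespace Cfsg.Agent.H991.WF.Co3

open Subgroup Cfsg Cfsg.Agent.Lib.PackMat Cfsg.Agent.SporRec.LeechMod3 Cfsg.Agent.SporRec.LeechChain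
  Cfsg.Agent.SporRec.Co3.MatData Cfsg.Agent.SporRec.Co3.ChainData Cfsg.Agent.SporRec.Co3.Chain
  Cfsg.Agent.H526.PcNf Cfsg.Agent.H526.Co3Data Cfsg.Agent.H143.Co3InvData

set_option maxRecDepth 20000 in
/-- terminal normal forms, their representatives and conjugating words -/
def tab : List (ℕ × ℕ × List ℕ) := [
  (8, 738, [8,8,11,3,9,9,0,0,0,14,14,17,10,7,4,16,0,9,9,0,16,5,6,5]),
  (9, 729, [12,5,14,16,4,13,16,1,6,16,3,17,9,9,0,4,9,7,17,0,0,17,0,0]),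
  (18, 729, [14,14,7,4,4,4,12,12,2,2,0,3,2,12,1,9,12,16,12,12,8,2]),
  (22, 22, []),
  (351, 738, [10,2,8,8,12,2,12,16,6,16,3,6,0,9,0,6,5,6,5,3,8,4]),
  (359, 738, [2,10,5,9,6,8,16,1,16,7,17,0,0,17,13,7,7,9,17,14,1,12,12,8]),
  (373, 22, [10,10,17]),
  (405, 738, [1,17,3,10,17,7,7,9,7,14,2,5,4,14,7,1,16,4,16,0,0,14,14,1,14,14]),
  (414, 729, [2,9,9,4,12,12,0,14,14,0,16,3,3,3,16,0,9,0,6,0,0,2,13,8]),
  (423, 729, [4,4,4,7,13,0,12,6,1,6,16,3,16,0,9,9,0,16,0,0,12,12,3]),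
  (567, 738, [11,8,0,12,12,17,7,7,8,7,16,1,16,10,17,11,13,2,4,7,4,7,1,7,7,9,11]),
  (576, 729, [16,5,0,4,8,0,9,2,2,2,3,14,8,2,7,4,7,1,7]),
  (585, 729, [13,2,14,14,0,17,12,7,8,9,9,8,5,4,7,16,0,9,0,0,2,0,16,7,7,13,10]),
  (702, 738, [1,8,6,17,1,11,8,8,16,0,9,0,16]),
  (710, 738, [10,8,10,8,3,10,17,5,9,17,9,9,0,4,9,10,17,11,13,2,4,0,13,9,9]),
  (724, 22, [10]),
  (729, 729, []),
  (733, 738, [16,3,13,13,4,12,17,14,2,14,5,4,4,4,12,12,1,8,7,17,3,3,3,16]),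
  (738, 738, []),
  (746, 22, [4,1,13,6,16,4,4,4,1,16,8,8,0,0,0,5,7,3,0,0]),
  (747, 729, [3,4,12,4,10,6,7,14,16,6,16,3,0,8,9,9,6,9,0,0,9,0,6]),
  (1084, 738, [2,3,3,3,14,12,17,13,8,8,9,0,8,9,9,0,5,5,5,9,8]),
  (1089, 738, [9,11,8]),
  (1097, 22, [14,14,6,12,12,1,16,7,16,6,6,6,16,3,16,0,9,9,0,16,5,6,5]),
  (1134, 729, [14,14,2,17,0,7,13,0,4,14,9,8,8,0,10,17,11,13,2,4,9,9,5,13]),
  (1143, 729, [17,8,0,5,0,14,0,1,7,17,0,0,17,5,6,5,0,0,11,0,8]),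
  (1152, 738, [13,2,2,2,11,13,11,7,12,8,8,14,14,7,0,7,6,14,0,0,16,8,17]),
  (1296, 738, [7,13,10,10,17,3,6,12,1,9,12,16,7,4,7,1,7,0,0]),
  (1305, 738, [5,17,2,11,2,7,16,1,3,16,0,9,9,0,6,0,0]),
  (1314, 738, [2,17,10,2,11,5,16,0,9,9,0,16]),
  (1435, 738, [8,9,1,4,7,17,1,17,8,9,11,1,13,13,9,1,16]),
  (1440, 738, [10,17,13,9,8,8,11,10,9,17,14,14,10]),
  (1448, 22, [13,9,9,4,2,7,7,8,7,16,1,16,8,8,0,0,0,5,7,3,14,5,5,5,13,13]),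
  (1458, 729, [13,8,12,11,17,9,12,16,13,8,11]),
  (1467, 729, [7,13,16,4,3,5,9,8,16,0,9,0,4,0,9,9,0,16,0,0,1,12,11,11]),
  (1471, 22, [1,5,11,13,11,0,6,0,0,0,14,14,17,10,7,4,6,0,9,0,6]),
  (1476, 738, [10,2,0,17,10,7,7,17,1,17,8,9,16,1,17,11,2,3,3,3,12,12]),
  (1484, 22, [11,14,11,17,12,12,16,13,8,11]),
  (1822, 22, [3,4,12,3,17,6,16,4,4,4,6,16,3,16,0,9,9,0,16,5,6,5]),
  (1827, 738, [14,14,13,13,3,3,3,11,14,14,7,6,5,13,7,17,0,0,17,8,8]),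
  (1835, 22, [16,8,11,17,12]),
  (1863, 738, [8,11,3,10,0,16,13,2,7,14,7,1,7,4,7,1,7,0,0,13,16,7,7]),
  (1872, 738, [17,12,5,12,16,0,8,0,16,1,3,16,6,1,1,1,14,14,1,1,1]),
  (1881, 738, [2,9,8,0,9,5,12,12,1,7,16,1,3,16,6,16,1,16,7,7,0,5,8,3,6,13,8]),
  (2025, 729, [4,11,10,10,0,12,14,16,1,16,1,16,7,7,14,7,1,0,0,11,7,8]),
  (2034, 738, [9,9,6,7,10,9,13,10,10,7,7,3,3,3,8,11,6,0,0]),
  (2043, 729, [11,8,17,13,5,16,1,1,1,0,0,0,9,0,0,0,16,5,6,5]),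
  (2173, 22, [7,5,9,8,4,16,10,17,11,13,2,4,7,7,17,3,2,8,8,7,13,11,9,0,6]),
  (2178, 738, [1,5,11,16,17,11,8,3,3,3,7,5,6,5,0,0]),
  (2186, 22, [8,9,16])]

/-- the check of one entry -/
noncomputable def okE (e : ℕ × ℕ × List ℕ) : Bool :=
  chk2 (w8 e.1 ++ e.2.2) (e.2.2 ++ w8 e.2.1) && (Nat.beq e.2.1 729 || (Nat.beq e.2.1 738 || Nat.beq e.2.1 22))

theorem tab_ok : (tab.all fun e => okE e) = true := by decide +kernel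

theorem tab_all : ((List.range 2187).all fun N =>
    (Nat.blt (dgt N % 16) 14 || tab.any fun e => Nat.beq e.1 N)) = true := by decide +kernel

end Cfsg.Agent.H991.WF.Co3
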