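import Cfsg.Agent.H991.WF.Word
import Cfsg.Agent.H991.WF.Co3Data
import Cfsg.Agent.H143.Co3Inv
import Cfsg.Agent.H536.T5.SpTools
import Cfsg.Agent.BpSpor.Row.Co3

/-!
# Elements of order three of `Co₃` (helper991, S3826)

`classes` : three classes, with the representatives `nfe 729 = p 6`, `nfe 738`, `nfe 22` (normal forms of the Sylow
3-subgroup of `Cfsg.Agent.H526.Co3Data`); `wrow_co3` : the weak pair row `WRow 3`.
-/

set_option autoImplicit false

namespace Cfsg.Agent.H991.WF.Co3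

open Subgroup Cfsg Cfsg.Agent.Lib.PackMat Cfsg.Agent.SporRec.LeechMod3 Cfsg.Agent.SporRec.LeechChain
  Cfsg.Agent.SporRec.Co3.MatData Cfsg.Agent.SporRec.Co3.ChainData Cfsg.Agent.SporRec.Co3.Chain
  Cfsg.Agent.H526.PcNf Cfsg.Agent.H526.Co3Data Cfsg.Agent.H526.Co3Three Cfsg.Agent.H143.Co3InvData
  Cfsg.Agent.H143.Co3Inv Cfsg.Agent.H533.T5

/-- the normal forms -/
noncomputable def nfe (N : ℕ) : G3 := ((nfw 3 7 0 N).map p).prod

theorem prod_nfe (N : ℕ) : ((w8 N).map K).prod = nfe N := prod_w8 N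

/-- conjugate to one of the three representatives -/
def Cl (x : G3) : Prop := ∃ r, (r = 729 ∨ r = 738 ∨ r = 22) ∧ ∃ g : G3, x * g = g * nfe r

theorem Cl.conj {x y g : G3} (h : Cl y) (e : x * g = g * y) : Cl x := by
  obtain ⟨r, hr, k, hk⟩ := h
  refine ⟨r, hr, g * k, ?_⟩
  rw [← mul_assoc, e, mul_assoc, hk, mul_assoc]

theorem cl_tab {e : ℕ × ℕ × List ℕ} (he : e ∈ tab) : Cl (nfe e.1) := by
  have h := List.all_eq_true.1 tab_ok e he
  unfold okE at h
  rw [Bool.and_eq_true, Bool.or_eq_true, Bool.or_eq_true, Nat.beq_eq, Nat.beq_eq, Nat.beq_eq] at h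
  refine ⟨e.2.1, h.2, (e.2.2.map K).prod, ?_⟩
  have h1 := eq_of_chk2 h.1
  rw [List.map_append, List.prod_append, List.map_append, List.prod_append, prod_nfe, prod_nfe] at h1
  exact h1

theorem cl_terminal {N : ℕ} (hN : N < 2187) (h : 14 ≤ dgt N % 16) : Cl (nfe N) := by
  have h1 := List.all_eq_true.1 tab_all N (List.mem_range.2 hN)
  rw [Bool.or_eq_true] at h1
  rcases h1 with h1 | h1
  · rw [Nat.blt_eq] at h1
    omega
  · obtain ⟨e, he, h2⟩ := List.any_eq_true.1 h1
    rw [Nat.beq_eq] at h2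
    rw [← h2]
    exact cl_tab he

/-- the normal forms of order three -/
theorem main_nf (r : ℕ) : ∀ N < 2187, rk N = r → nfe N ^ 3 = 1 → nfe N ≠ 1 → Cl (nfe N) := by
  induction r using Nat.strong_induction_on with
  | _ r ih =>
  intro N hN hr h3 h1
  have h := List.all_eq_true.1 ok_all N (List.mem_range.2 hN)
  unfold okN at h
  by_cases ht : 14 ≤ dgt N % 16
  · exact cl_terminal hN ht
  cases ha : Nat.beq (dgt N % 16) 0 with
  | true =>
    rw [ha, cond_true, Bool.or_eq_true] at h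
    rcases h with h | h
    · rw [Nat.beq_eq] at h
      subst h
      refine absurd ?_ h1
      rw [nfe, show nfw 3 7 0 0 = [] by decide]; rfl
    · exfalso
      refine ne_of_key (u := w8 N ++ (w8 N ++ w8 N)) (wok2_append (wok2_w8 N) (wok2_append (wok2_w8 N) (wok2_w8 N))) h ?_
      rw [List.map_append, List.prod_append, List.map_append, List.prod_append, prod_nfe, ← h3]
      simp [pow_succ, mul_assoc]
  | false =>
    rw [ha, cond_false] at h
    have hb : Nat.beq (dgt N % 16) 14 = false := by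
      rw [← Bool.not_eq_true, Nat.beq_eq]; omega
    have hc : Nat.beq (dgt N % 16) 15 = false := by
      rw [← Bool.not_eq_true, Nat.beq_eq]; omega
    rw [hb, cond_false, hc, cond_false, Bool.and_eq_true, Bool.and_eq_true, Bool.and_eq_true] at h
    obtain ⟨hM, hrk, -, hchk⟩ := h
    rw [Nat.blt_eq] at hM hrk
    have h4 := eq_of_chk2 hchk
    rw [List.map_append, List.prod_append, List.map_cons, List.prod_cons, List.map_nil, List.prod_nil, mul_one,
      List.map_cons, List.prod_cons, prod_nfe, prod_nfe] at h4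
    refine Cl.conj (y := nfe (dgt N / 256)) (ih (rk (dgt N / 256)) (by omega) _ hM rfl ?_ ?_) h4
    · have e : nfe (dgt N / 256) = (K (7 + dgt N % 16))⁻¹ * nfe N * K (7 + dgt N % 16) := by
        rw [mul_assoc, h4]; group
      rw [e]
      generalize K (7 + dgt N % 16) = g at *
      generalize nfe N = x at *
      calc (g⁻¹ * x * g) ^ 3 = g⁻¹ * (x ^ 3) * g := by
            simp only [pow_succ, pow_zero, one_mul]; group
        _ = 1 := by rw [h3]; group
    · intro h5
      apply h1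
      rw [h5, mul_one] at h4
      exact mul_right_cancel (h4.trans (one_mul _).symm)

/-- **the classes of elements of order three** -/
theorem classes {x : G3} (h3 : x ^ 3 = 1) (h1 : x ≠ 1) : Cl x := by
  have : Fact (Nat.Prime 3) := ⟨Nat.prime_three⟩
  obtain ⟨S, hS⟩ := exists_sylow
  have hz : IsPGroup 3 (zpowers x) := by
    intro y
    obtain ⟨k, hk⟩ := mem_zpowers_iff.1 y.2
    refine ⟨1, Subtype.ext ?_⟩
    have : (x ^ k) ^ 3 = 1 := by rw [← zpow_natCast, ← zpow_mul, mul_comm, zpow_mul, zpow_natCast, h3, one_zpow]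
    simpa [← hk] using this
  obtain ⟨R, hR⟩ := hz.exists_le_sylow
  obtain ⟨g, hg⟩ := MulAction.exists_smul_eq G3 R S
  have hx : g * x * g⁻¹ ∈ S := by
    rw [← hg]
    exact ⟨x, hR (mem_zpowers x), rfl⟩
  have hx' : g * x * g⁻¹ ∈ closure (Sk 7 p 0) := by rw [← hS]; exact hx
  obtain ⟨N, hN, e⟩ := pc.exists_nf' (by norm_num) hx'
  have hI : Cl (g * x * g⁻¹) := by
    rw [e]
    refine main_nf _ N hN rfl ?_ ?_
    · rw [nfe, ← e]
      calc (g * x * g⁻¹) ^ 3 = g * (x ^ 3) * g⁻¹ := by simp only [pow_succ, pow_zero, one_mul]; group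
        _ = 1 := by rw [h3]; group
    · rw [nfe, ← e]
      intro h
      apply h1
      calc x = g⁻¹ * (g * x * g⁻¹) * g := by group
        _ = 1 := by rw [h]; group
  exact hI.conj (g := g⁻¹) (by group)

/-! ### pairs -/

/-- the word of the pair -/
def pw (a b : ℕ) (g gi : List ℕ) : List ℕ := w8 a ++ (g ++ (w8 b ++ gi))

/-- the check of a pair -/
noncomputable def okP (a b : ℕ) (g gi : List ℕ) (n : ℕ) : Bool :=
  chk2 (g ++ gi) [] && (chk2 (wp (pw a b g gi) n) [] && (wok gs18 (pw a b g gi) &&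
    !Nat.beq (key2 (pw a b g gi)) (key2 [])))

theorem pairAB : okP 729 738 [1] [1, 1, 1] 8 = true := by decide +kernel
theorem pairAC : okP 729 22 [0] [0, 0, 0] 10 = true := by decide +kernel
theorem pairBC : okP 738 22 [3] [3, 3, 3] 7 = true := by decide +kernel

theorem wpair_of_ok {a b n : ℕ} {g gi : List ℕ} (h : okP a b g gi n = true) (hn : Nat.Coprime n 3) :
    WPair 3 (⊤ : Subgroup G3) (nfe a) (nfe b) := by
  unfold okP at h
  rw [Bool.and_eq_true, Bool.and_eq_true, Bool.and_eq_true] at h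
  obtain ⟨h1, h2, h3, h4⟩ := h
  have e1 := eq_of_chk2 h1
  rw [List.map_append, List.prod_append, List.map_nil, List.prod_nil] at e1
  have e2 : (gi.map K).prod = ((g.map K).prod)⁻¹ := (inv_eq_of_mul_eq_one_right e1).symm
  have e3 : ((pw a b g gi).map K).prod = nfe a * ((g.map K).prod * nfe b * ((g.map K).prod)⁻¹) := by
    rw [pw, List.map_append, List.prod_append, List.map_append, List.prod_append, List.map_append, List.prod_append,
      prod_nfe, prod_nfe, e2, mul_assoc ((g.map K).prod)]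
  refine wpair_of_word (g := (g.map K).prod) (m := 1) (n := n) ?_ hn ?_
  · rw [pow_one, ← e3, ← wp_prod]
    exact eq_of_chk2 h2
  · rw [pow_one, ← e3]
    exact ne_of_key h3 h4

instance finG3' : Finite G3 := H143.Co3Inv.finG3

theorem simple_G3 : IsSimpleGroup G3 := isCo3_G3.1

theorem pairs {x y : G3} (hx : orderOf x = 3) (hy : orderOf y = 3) : WPair 3 (⊤ : Subgroup G3) x y := by
  have : Fact (Nat.Prime 3) := ⟨Nat.prime_three⟩
  have hs := simple_G3
  have hna : ¬ IsMulCommutative G3 := H536.T5.not_comm_of_card (by rw [isCo3_G3.2]; norm_num)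
  have key : ∀ z : G3, orderOf z = 3 → Cl z := fun z hz =>
    classes (by rw [← hz, pow_orderOf_eq_one]) (fun h => by rw [h, orderOf_one] at hz; norm_num at hz)
  obtain ⟨a, ha, g, hg⟩ := key x hx
  obtain ⟨b, hb, k, hk⟩ := key y hy
  have hg' : g⁻¹ * x * g⁻¹⁻¹ = nfe a := by rw [inv_inv, mul_assoc, hg]; group
  have hk' : k⁻¹ * y * k⁻¹⁻¹ = nfe b := by rw [inv_inv, mul_assoc, hk]; group
  have hna1 : nfe a ≠ 1 := by
    intro h
    have h2 : x = 1 := by
      calc x = g * (g⁻¹ * x * g⁻¹⁻¹) * g⁻¹ := by group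
        _ = 1 := by rw [hg', h]; group
    rw [h2, orderOf_one] at hx
    norm_num at hx
  refine WPair.conj_left (Subgroup.mem_top g⁻¹) (WPair.conj_right (Subgroup.mem_top k⁻¹) ?_)
  rw [hg', hk']
  by_cases hab : a = b
  · rw [← hab]
    exact wpair_of_isConj hna (i := 1) (j := 1) (IsConj.refl _) (by rwa [pow_one])
  have hAB := wpair_of_ok pairAB (by norm_num)
  have hAC := wpair_of_ok pairAC (by norm_num)
  have hBC := wpair_of_ok pairBC (by norm_num)
  rcases ha with rfl | rfl | rfl <;> rcases hb with rfl | rfl | rfl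
  · exact absurd rfl hab
  · exact hAB
  · exact hAC
  · exact hAB.symm
  · exact absurd rfl hab
  · exact hBC
  · exact hAC.symm
  · exact hBC.symm
  · exact absurd rfl hab

universe u v

/-- **the weak row `(Co3, 3)`** -/
theorem wrow_co3 (S : Type u) [Group S] [Finite S] [IsSimpleGroup S] (h : Spor.IsoCo3 S) : WRow 3 S := by
  have hI : Cfsg.Spor.IsoCo3 G3 := ⟨Cfsg.Agent.SporRec.Co3.Model.equivCo3⟩
  obtain ⟨e⟩ := h
  have e' : S ≃* G3 := e.trans Cfsg.Agent.SporRec.Co3.Model.equivCo3.symm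
  refine H536.T5.wrow_of_model Nat.prime_three (by norm_num) ?_ (Cfsg.Agent.BpSpor.Inn.OddInn.congr e'
    (Cfsg.Agent.BpSpor.Inn.co3 hI)) e' fun x y hx hy => pairs hx hy
  rw [Nat.card_congr e'.toEquiv, isCo3_G3.2]
  norm_num

/-- **the row `(Co3, 3)` of S3826** -/
theorem wfrow_co3 {K : Type v} [Group K] [Finite K] [IsSimpleGroup K] (h : Spor.IsoCo3 K) :
    Cfsg.Agent.H533.Wf.WfRow.{u, v} 3 K := by
  have : Fact (Nat.Prime 3) := ⟨Nat.prime_three⟩
  exact Cfsg.Agent.H533.Wf.WfRow.of_wrow (wrow_co3 K h)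

end Cfsg.Agent.H991.WF.Co3
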