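import Cfsg.Agent.H533.Wf.Kills

/-!
# Weak pairs of elements of order three from words (helper991, S3826)
-/

set_option autoImplicit false

namespace Cfsg.Agent.H991.WF

open Subgroup Cfsg Cfsg.Agent.H533.T5

/-- a power of the product of `x` and a conjugate of `y` is a nontrivial `3'`-element -/
theorem wpair_of_word {G : Type*} [Group G] {x y g : G} {m n : ℕ}
    (h : ((x * (g * y * g⁻¹)) ^ m) ^ n = 1) (hn : Nat.Coprime n 3)
    (hne : (x * (g * y * g⁻¹)) ^ m ≠ 1) : WPair 3 (⊤ : Subgroup G) x y := by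
  refine ⟨g, Subgroup.mem_top g, fun hP => hne ?_⟩
  have hz : (x * (g * y * g⁻¹)) ^ m ∈ Subgroup.closure ({x, g * y * g⁻¹} : Set G) :=
    pow_mem (mul_mem (Subgroup.subset_closure (by simp)) (Subgroup.subset_closure (by simp))) m
  obtain ⟨k, hk⟩ := exists_orderOf_of_isPGroup Nat.prime_three hP hz
  have h1 : orderOf ((x * (g * y * g⁻¹)) ^ m) ∣ n := orderOf_dvd_of_pow_eq_one h
  rw [hk] at h1
  have h2 : orderOf ((x * (g * y * g⁻¹)) ^ m) = 1 := by
    rw [hk]
    exact Nat.eq_one_of_dvd_coprimes (hn.symm.pow_left k) dvd_rfl h1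
  exact orderOf_eq_one_iff.1 h2

/-- powers of words -/
def wp (w : List ℕ) : ℕ → List ℕ
  | 0 => []
  | n + 1 => w ++ wp w n

theorem wp_prod {G : Type*} [Group G] (f : ℕ → G) (w : List ℕ) (n : ℕ) :
    ((wp w n).map f).prod = (w.map f).prod ^ n := by
  induction n with
  | zero => rw [wp, List.map_nil, List.prod_nil, pow_zero]
  | succ n ih => rw [wp, List.map_append, List.prod_append, ih, pow_succ']

end Cfsg.Agent.H991.WF
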